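import Groth.Agent.Lib.Helper1.FlatNilpotent
import Groth.Prelude.Def_AssocGrMod

/-!
# Local flatness criterion for a nilpotent ideal, associated graded form (helper8)

`M/IM` flat over `A/I` and `gr_I(A) ⊗ M/IM → gr_I(M)` injective (degree by degree) imply `M` flat,
for `I` nilpotent.  We show `I ⊗ M → M` injective by pushing a kernel element into
`Iⁿ ⊗ M` for all `n`, then use helper1's `flat_of_isNilpotent_of_flat_quotient`.
-/

set_option autoImplicit false
universe u
open TensorProduct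

namespace Groth.Agent.H8.LocCritGr

variable (A : Type u) [CommRing A] (I : Ideal A) (M : Type u) [AddCommGroup M] [Module A M]

/-- inclusion `I^(n+1) → I^n` -/
noncomputable def inc (n : ℕ) : ↥(I ^ (n + 1)) →ₗ[A] ↥(I ^ n) :=
  Submodule.inclusion (Ideal.pow_le_pow_right (Nat.le_succ n))

/-- inclusion `I^(n+1) → I` -/
noncomputable def jn (n : ℕ) : ↥(I ^ (n + 1)) →ₗ[A] ↥I :=
  Submodule.inclusion (Ideal.pow_le_self (Nat.succ_ne_zero n))

/-- the hypothesis of the statement -/
def Hyp : Prop :=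
  ∀ (n k : ℕ) (a : Fin k → ↥((FiltBl.IdealFiltration.adic I).F n))
      (x : Fin k → ↥((Rees.powFilt I M).N 0)),
      (∑ i, (AssocGr.inDeg (FiltBl.IdealFiltration.adic I) n (a i) :
          AssocGr.GrRing (FiltBl.IdealFiltration.adic I)) •
        (AssocGr.inDegM (Rees.powFilt I M) 0 (x i) : AssocGr.GrMod (Rees.powFilt I M))) = 0 →
      (∑ i, (AssocGr.inDeg (FiltBl.IdealFiltration.adic I) n (a i)) ⊗ₜ[A]
          (Submodule.Quotient.mk (x i : M)) :
        ↥(AssocGr.gr (FiltBl.IdealFiltration.adic I) n) ⊗[A] (M ⧸ (I • (⊤ : Submodule A M)))) = 0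

lemma range_lTensor_le (n : ℕ) :
    LinearMap.range (LinearMap.lTensor ↥(I ^ n) (I • (⊤ : Submodule A M)).subtype) ≤
      LinearMap.range ((inc A I n).rTensor M) := by
  rintro _ ⟨t, rfl⟩
  induction t using TensorProduct.induction_on with
  | zero => rw [map_zero]; exact zero_mem _
  | add t₁ t₂ h₁ h₂ => rw [map_add]; exact add_mem h₁ h₂
  | tmul a y =>
    obtain ⟨y, hy⟩ := y
    rw [LinearMap.lTensor_tmul, Submodule.subtype_apply]
    show a ⊗ₜ[A] y ∈ LinearMap.range ((inc A I n).rTensor M)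
    induction hy using Submodule.smul_induction_on' with
    | smul b hb m hm =>
      have hab : b * (a : A) ∈ I ^ (n + 1) := by
        rw [pow_succ, mul_comm b (a : A)]
        exact Ideal.mul_mem_mul a.2 hb
      refine ⟨(⟨b * (a : A), hab⟩ : ↥(I ^ (n + 1))) ⊗ₜ[A] m, ?_⟩
      rw [LinearMap.rTensor_tmul]
      have h1 : inc A I n ⟨b * (a : A), hab⟩ = b • a := Subtype.ext rfl
      rw [h1, TensorProduct.smul_tmul]
    | add y₁ h₁ y₂ h₂ ih₁ ih₂ =>
      rw [TensorProduct.tmul_add]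
      exact add_mem ih₁ ih₂

theorem key (hinj : Hyp A I M) (n : ℕ) (w : ↥(I ^ n) ⊗[A] M)
    (hw : ((I ^ n).subtype.rTensor M) w = 0) :
    w ∈ LinearMap.range ((inc A I n).rTensor M) := by
  classical
  obtain ⟨S, hS⟩ := TensorProduct.exists_finset w
  let e : Fin S.card ≃ S := S.equivFin.symm
  let a : Fin S.card → ↥(I ^ n) := fun i => (e i).1.1
  let a' : Fin S.card → ↥((FiltBl.IdealFiltration.adic I).F n) := a
  have hx0 : ∀ m : M, m ∈ (Rees.powFilt I M).N 0 := by
    intro m
    show m ∈ I ^ 0 • (⊤ : Submodule A M)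
    rw [pow_zero, Ideal.one_eq_top, Submodule.top_smul]
    trivial
  let x : Fin S.card → ↥((Rees.powFilt I M).N 0) := fun i => ⟨(e i).1.2, hx0 _⟩
  have hw' : w = ∑ i, ((a i : ↥(I ^ n))) ⊗ₜ[A] ((x i : M)) := by
    rw [hS, ← Finset.sum_coe_sort S, ← e.sum_comp]
  have hrel : ∑ i, ((a i : ↥(I ^ n)) : A) • (x i : M) = 0 := by
    have h := congrArg (TensorProduct.lid A M) hw
    rw [hw'] at h
    simpa only [map_sum, LinearMap.rTensor_tmul, Submodule.subtype_apply, TensorProduct.lid_tmul,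
      map_zero] using h
  -- the hypothesis of `hinj`
  let y : Fin S.card → ↥((Rees.powFilt I M).N (n + 0)) := fun i =>
    ⟨((a i : ↥(I ^ n)) : A) • (x i : M), (Rees.powFilt I M).pow_smul_le n 0
      (Submodule.smul_mem_smul (show ((a i : ↥(I ^ n)) : A) ∈ I ^ n from (a i).2) (x i).2)⟩
  have hy0 : ∑ i, y i = 0 := by
    apply Subtype.ext
    rw [AddSubmonoidClass.coe_finsetSum]
    exact hrel
  have h3 : ∀ i, (AssocGr.inDeg (FiltBl.IdealFiltration.adic I) n (a' i) :
        AssocGr.GrRing (FiltBl.IdealFiltration.adic I)) •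
      (AssocGr.inDegM (Rees.powFilt I M) 0 (x i) : AssocGr.GrMod (Rees.powFilt I M)) =
      ((AssocGr.inDegM (Rees.powFilt I M) (n + 0) (y i) :
        ↥(AssocGr.grM (Rees.powFilt I M) (n + 0))) : AssocGr.GrMod (Rees.powFilt I M)) :=
    fun i => AssocGr.inDeg_smul_inDegM (Rees.powFilt I M) n 0 (a' i) (x i)
  have h1 : (∑ i, (AssocGr.inDeg (FiltBl.IdealFiltration.adic I) n (a' i) :
          AssocGr.GrRing (FiltBl.IdealFiltration.adic I)) •
        (AssocGr.inDegM (Rees.powFilt I M) 0 (x i) : AssocGr.GrMod (Rees.powFilt I M))) = 0 := by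
    rw [Finset.sum_congr rfl (fun i _ => h3 i), ← AddSubmonoidClass.coe_finsetSum, ← map_sum, hy0,
      map_zero]
    rfl
  have h4 := hinj n S.card a' x h1
  -- the product map
  let ψ : ↥(I ^ n) →ₗ[A] ↥(AssocGr.gr (FiltBl.IdealFiltration.adic I) n) :=
    AssocGr.inDeg (FiltBl.IdealFiltration.adic I) n
  have hψ : Function.Surjective ψ := AssocGr.inDeg_surjective (FiltBl.IdealFiltration.adic I) n
  have hΦ : TensorProduct.map ψ (I • (⊤ : Submodule A M)).mkQ w = 0 := by
    rw [hw', map_sum]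
    simp only [TensorProduct.map_tmul, Submodule.mkQ_apply]
    exact h4
  have hker := TensorProduct.map_ker (LinearMap.exact_subtype_ker_map ψ) hψ
    (LinearMap.exact_subtype_mkQ (I • (⊤ : Submodule A M)))
    (Submodule.mkQ_surjective (I • (⊤ : Submodule A M)))
  have hwk : w ∈ LinearMap.ker (TensorProduct.map ψ (I • (⊤ : Submodule A M)).mkQ) := hΦ
  rw [hker] at hwk
  obtain ⟨w₁, hw₁, w₂, hw₂, rfl⟩ := Submodule.mem_sup.1 hwk
  refine add_mem (range_lTensor_le A I M n hw₁) ?_
  -- the other summand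
  let θ : ↥(LinearMap.ker ψ) →ₗ[A] ↥(I ^ (n + 1)) :=
    LinearMap.codRestrict (I ^ (n + 1)) ((I ^ n).subtype ∘ₗ (LinearMap.ker ψ).subtype)
      (fun b => (AssocGr.inDeg_eq_zero_iff (FiltBl.IdealFiltration.adic I) n b.1).1 b.2)
  have hθ : (LinearMap.ker ψ).subtype = (inc A I n) ∘ₗ θ := by
    ext b
    rfl
  rw [hθ, LinearMap.rTensor_comp] at hw₂
  exact LinearMap.range_comp_le_range _ _ hw₂

theorem rTensor_injective (hI : IsNilpotent I) (hinj : Hyp A I M) :
    Function.Injective (I.subtype.rTensor M) := by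
  obtain ⟨N, hN⟩ := hI
  rw [injective_iff_map_eq_zero]
  intro z hz
  have hcl : ∀ n, z ∈ LinearMap.range ((jn A I n).rTensor M) := by
    intro n
    induction n with
    | zero =>
      let e1 : ↥I ≃ₗ[A] ↥(I ^ (0 + 1)) := LinearEquiv.ofEq _ _ (by rw [zero_add, pow_one])
      refine ⟨(e1.toLinearMap.rTensor M) z, ?_⟩
      rw [← LinearMap.comp_apply, ← LinearMap.rTensor_comp]
      have h1 : (jn A I 0) ∘ₗ e1.toLinearMap = LinearMap.id := by
        ext b
        rfl
      rw [h1, LinearMap.rTensor_id, LinearMap.id_apply]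
    | succ n ih =>
      obtain ⟨w, rfl⟩ := ih
      have h1 : (I ^ (n + 1)).subtype = I.subtype ∘ₗ (jn A I n) := by
        ext b
        rfl
      have hw : ((I ^ (n + 1)).subtype.rTensor M) w = 0 := by
        rw [h1, LinearMap.rTensor_comp, LinearMap.comp_apply]
        exact hz
      obtain ⟨w', rfl⟩ := key A I M hinj (n + 1) w hw
      refine ⟨w', ?_⟩
      rw [← LinearMap.comp_apply, ← LinearMap.rTensor_comp]
      have h2 : (jn A I n) ∘ₗ (inc A I (n + 1)) = jn A I (n + 1) := by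
        ext b
        rfl
      rw [h2]
  obtain ⟨w, rfl⟩ := hcl N
  have hpow : I ^ (N + 1) = ⊥ := by
    rw [pow_succ, hN, zero_mul]
    rfl
  have hzero : ∀ c ∈ I ^ (N + 1), c = 0 := fun c hc => by
    rw [hpow] at hc
    exact hc
  have hw0 : ∀ w : ↥(I ^ (N + 1)) ⊗[A] M, w = 0 := by
    intro w
    induction w using TensorProduct.induction_on with
    | zero => rfl
    | tmul b m =>
      have hb : b = 0 := Subtype.ext (hzero b.1 b.2)
      rw [hb, TensorProduct.zero_tmul]
    | add w₁ w₂ h₁ h₂ => rw [h₁, h₂, add_zero]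
  rw [hw0 w, map_zero]

theorem main (hI : IsNilpotent I)
    (hflat : Module.Flat (A ⧸ I) (M ⧸ (I • (⊤ : Submodule A M))))
    (hinj : Hyp A I M) : Module.Flat A M := by
  have : Module.Flat (A ⧸ I) ((A ⧸ I) ⊗[A] M) :=
    Module.Flat.of_linearEquiv
      ((TensorProduct.quotTensorEquivQuotSMul M I).extendScalarsOfSurjective
        Ideal.Quotient.mk_surjective)
  exact Groth.Agent.H1.flat_of_isNilpotent_of_flat_quotient I hI
    (rTensor_injective A I M hI hinj)

end Groth.Agent.H8.LocCritGr
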